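import Mathlib

/-! Algebras étale over a Dedekind domain are finite products of Dedekind domains. -/

set_option autoImplicit false
universe u

namespace Groth.Agent.EtDed7

open IsLocalRing

theorem isDomain_isPrincipalIdealRing_of_span {R : Type u} [CommRing R] [IsNoetherianRing R] [IsLocalRing R]
    (π : R) (hπ : maximalIdeal R = Ideal.span {π}) (hreg : π = 0 ∨ ∀ x, π * x = 0 → x = 0) :
    IsDomain R ∧ IsPrincipalIdealRing R := by
  suffices hdom : IsDomain R by
    refine ⟨hdom, ?_⟩
    have h : (maximalIdeal R).IsPrincipal := ⟨⟨π, hπ⟩⟩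
    exact ((tfae_of_isNoetherianRing_of_isLocalRing_of_isDomain R).out 4 0 rfl rfl).mp h
  rcases hreg with h0 | hreg
  · have hf : IsField R := isField_iff_maximalIdeal_eq.mpr (by rw [hπ, h0, Ideal.span_singleton_eq_bot.mpr rfl])
    exact hf.isDomain
  · have key : ∀ a : R, a ≠ 0 → ∃ (i : ℕ) (u : Rˣ), a = π ^ i * u := by
      intro a ha
      by_contra hne
      push_neg at hne
      have h : ∀ n, a ∈ (maximalIdeal R) ^ n := by
        intro n
        induction n with
        | zero => simp
        | succ n ih =>
          rw [hπ, Ideal.span_singleton_pow, Ideal.mem_span_singleton] at ih ⊢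
          obtain ⟨c, hc⟩ := ih
          by_cases hu : IsUnit c
          · exact absurd (hc.trans rfl) (hne n hu.unit)
          · have hc' : c ∈ maximalIdeal R := hu
            rw [hπ, Ideal.mem_span_singleton] at hc'
            obtain ⟨d, hd⟩ := hc'
            exact ⟨d, by rw [hc, hd, pow_succ, mul_assoc]⟩
      have : a ∈ ⨅ n, (maximalIdeal R) ^ n := Ideal.mem_iInf.mpr h
      rw [Ideal.iInf_pow_eq_bot_of_isLocalRing _ (maximalIdeal.isMaximal R).ne_top] at this
      exact ha this
    have hpow : ∀ (n : ℕ) (x : R), π ^ n * x = 0 → x = 0 := by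
      intro n
      induction n with
      | zero => intro x hx; simpa using hx
      | succ n ih => intro x hx; rw [pow_succ, mul_assoc] at hx; exact hreg x (ih _ hx)
    haveI : NoZeroDivisors R := ⟨fun {a b} hab => by
      by_cases ha : a = 0
      · exact Or.inl ha
      obtain ⟨i, u, rfl⟩ := key a ha
      rw [mul_assoc] at hab
      exact Or.inr ((Units.mul_right_eq_zero u).mp (hpow i _ hab))⟩
    exact NoZeroDivisors.to_isDomain R

variable (A : Type u) {B : Type u} [CommRing A] [IsDedekindDomain A] [CommRing B] [Algebra A B] [Algebra.Etale A B]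
include A

theorem isDomain_localization (q : Ideal B) [q.IsPrime] :
    IsDomain (Localization.AtPrime q) ∧ IsPrincipalIdealRing (Localization.AtPrime q) := by
  haveI : IsNoetherianRing B := Algebra.FiniteType.isNoetherianRing A B
  let p := q.under A
  haveI : q.LiesOver p := ⟨rfl⟩
  let _ := Localization.AtPrime.algebraOfLiesOver p q
  have hu : Algebra.IsUnramifiedAt A q := Algebra.FormallyUnramified.comp A B _
  haveI : Algebra.EssFiniteType (Localization.AtPrime p) (Localization.AtPrime q) := .of_comp A _ _
  haveI : Algebra.FormallyUnramified (Localization.AtPrime p) (Localization.AtPrime q) :=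
    .of_restrictScalars A _ _
  haveI : IsLocalHom (algebraMap (Localization.AtPrime p) (Localization.AtPrime q)) := by
    rw [Localization.AtPrime.IsLiesOverAlgebra.algebraMap_eq]
    infer_instance
  haveI : Module.Flat A (Localization.AtPrime q) := Module.Flat.trans A B _
  haveI : Module.Flat (Localization.AtPrime p) (Localization.AtPrime q) :=
    (Module.flat_iff_of_isLocalization (Localization.AtPrime p) p.primeCompl (Localization.AtPrime q)).mpr ‹_›
  have hA : IsPrincipalIdealRing (Localization.AtPrime p) := by
    by_cases hp : p = ⊥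
    · have hf : IsField (Localization.AtPrime p) := by
        rw [isField_iff_maximalIdeal_eq, ← Localization.AtPrime.map_eq_maximalIdeal]
        exact (Ideal.map_eq_bot_iff_le_ker _).mpr (hp.le.trans bot_le)
      letI := hf.toField
      infer_instance
    · haveI := IsLocalization.AtPrime.isDiscreteValuationRing_of_dedekind_domain A hp (Localization.AtPrime p)
      infer_instance
  obtain ⟨π, hπ⟩ := (hA.principal (maximalIdeal (Localization.AtPrime p))).principal
  haveI : Algebra.EssFiniteType A (Localization.AtPrime q) := .comp A B _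
  have hmax : maximalIdeal (Localization.AtPrime q) =
      Ideal.span {algebraMap (Localization.AtPrime p) (Localization.AtPrime q) π} := by
    rw [← Algebra.FormallyUnramified.map_maximalIdeal (R := Localization.AtPrime p) (S := Localization.AtPrime q),
      hπ, Ideal.map_span, Set.image_singleton]
  refine isDomain_isPrincipalIdealRing_of_span _ hmax ?_
  by_cases h0 : π = 0
  · exact Or.inl (by rw [h0, map_zero])
  · refine Or.inr fun x hx => ?_
    have hr : IsSMulRegular (Localization.AtPrime q) π :=
      Module.Flat.isSMulRegular_of_isRegular (isRegular_iff_ne_zero.mpr h0)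
    exact hr (show π • x = π • 0 by rw [smul_zero, Algebra.smul_def, hx])

theorem exists_ringEquiv_pi :
    ∃ (n : ℕ) (D : Fin n → Type u) (_ : ∀ i, CommRing (D i)) (_ : ∀ i, IsDedekindDomain (D i)),
      Nonempty (B ≃+* ∀ i, D i) := by
  haveI : IsNoetherianRing B := Algebra.FiniteType.isNoetherianRing A B
  have hfin := minimalPrimes.finite_of_isNoetherianRing B
  let s := hfin.toFinset
  let e := s.equivFin
  let P : Fin s.card → Ideal B := fun i => (e.symm i).1
  have hP : ∀ i, P i ∈ minimalPrimes B := fun i => hfin.mem_toFinset.mp (e.symm i).2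
  haveI : ∀ i, (P i).IsPrime := fun i => (hP i).1.1
  have hco : Pairwise fun i j => IsCoprime (P i) (P j) := by
    intro i j hij
    rw [Ideal.isCoprime_iff_sup_eq]
    by_contra hne
    obtain ⟨q, hq, hle⟩ := Ideal.exists_le_maximal _ hne
    haveI := hq.isPrime
    haveI := (isDomain_localization A q).1
    have hdisj : ∀ k, P k ≤ q → P k = RingHom.ker (algebraMap B (Localization.AtPrime q)) := by
      intro k hk
      have hmin : RingHom.ker (algebraMap B (Localization.AtPrime q)) ≤ P k := by
        intro y hy
        obtain ⟨⟨c, hc⟩, hcy⟩ := (IsLocalization.map_eq_zero_iff q.primeCompl _ y).mp hy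
        exact ((inferInstance : (P k).IsPrime).mem_or_mem (hcy ▸ (P k).zero_mem)).resolve_left fun h => hc (hk h)
      exact le_antisymm ((hP k).2 ⟨RingHom.ker_isPrime _, bot_le⟩ hmin) hmin
    have h := (hdisj i (le_sup_left.trans hle)).trans (hdisj j (le_sup_right.trans hle)).symm
    exact hij (e.symm.injective (Subtype.ext h))
  have hinf : ⨅ i, P i = ⊥ := by
    refine le_bot_iff.mp fun x hx => ?_
    rw [Submodule.mem_bot]
    by_contra hx0
    obtain ⟨q, hq, hle⟩ := Ideal.exists_le_maximal (Submodule.span B {x}).annihilator (fun htop => hx0 (by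
      have h1 : (1 : B) ∈ (Submodule.span B {x}).annihilator := htop ▸ Submodule.mem_top
      rw [Submodule.mem_annihilator_span_singleton, one_smul] at h1
      exact h1))
    haveI := hq.isPrime
    haveI := (isDomain_localization A q).1
    haveI := RingHom.ker_isPrime (algebraMap B (Localization.AtPrime q))
    obtain ⟨p, hp, hple⟩ := Ideal.exists_minimalPrimes_le (I := ⊥) (J := RingHom.ker (algebraMap B (Localization.AtPrime q))) bot_le
    have hxp : x ∈ p := (congrArg (x ∈ ·) (show P (e ⟨p, hfin.mem_toFinset.mpr hp⟩) = p by simp [P])).mp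
      (Ideal.mem_iInf.mp hx _)
    obtain ⟨⟨c, hc⟩, hcx⟩ := (IsLocalization.map_eq_zero_iff q.primeCompl _ x).mp (hple hxp)
    exact hc (hle (Submodule.mem_annihilator_span_singleton _ _ |>.mpr hcx))
  refine ⟨s.card, fun i => B ⧸ P i, inferInstance, fun i => ?_, ⟨?_⟩⟩
  · haveI : IsDedekindDomainDvr (B ⧸ P i) :=
      { is_dvr_at_nonzero_prime := fun Q hQ hQp => by
          haveI := hQp
          let q := Q.comap (Ideal.Quotient.mk (P i))
          haveI : q.IsPrime := Ideal.comap_isPrime _ _
          haveI := (isDomain_localization A q).2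
          haveI : IsDomain (Localization.AtPrime Q) :=
            IsLocalization.isDomain_localization Q.primeCompl_le_nonZeroDivisors
          let φ : Localization.AtPrime q →+* Localization.AtPrime Q :=
            Localization.localRingHom q Q (Ideal.Quotient.mk (P i)) rfl
          haveI : IsPrincipalIdealRing (Localization.AtPrime Q) := by
            refine IsPrincipalIdealRing.of_surjective φ fun z => ?_
            obtain ⟨a, ⟨s, hs⟩, rfl⟩ := IsLocalization.exists_mk'_eq Q.primeCompl z
            obtain ⟨a, rfl⟩ := Ideal.Quotient.mk_surjective a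
            obtain ⟨s, rfl⟩ := Ideal.Quotient.mk_surjective s
            exact ⟨IsLocalization.mk' _ a ⟨s, hs⟩, Localization.localRingHom_mk' _ _ _ rfl a _⟩
          refine { not_a_field' := fun h0 => hQ ?_ }
          rw [← Localization.AtPrime.map_eq_maximalIdeal,
            Ideal.map_eq_bot_iff_of_injective (IsLocalization.injective _ Q.primeCompl_le_nonZeroDivisors)] at h0
          exact h0 }
    infer_instance
  · exact ((RingEquiv.quotientBot B).symm.trans (Ideal.quotEquivOfEq hinf.symm)).trans
      (Ideal.quotientInfRingEquivPiQuotient P hco)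

theorem isDiscreteValuationRing_localization (q : Ideal B) [q.IsMaximal]
    (h : ¬ IsField (Localization.AtPrime q)) :
    ∃ _ : IsDomain (Localization.AtPrime q), IsDiscreteValuationRing (Localization.AtPrime q) := by
  obtain ⟨hd, hp⟩ := isDomain_localization A q
  haveI := hp
  exact ⟨hd, { not_a_field' := fun h0 => h (isField_iff_maximalIdeal_eq.mpr h0) }⟩

end Groth.Agent.EtDed7
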